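import Groth.Agent.SmoothReg.Scheme
import Groth.Agent.FlatDvr.FibreStalk
import Groth.Agent.GrpSchLib.SmoothRegular
import Groth.Agent.GrpSchLib.Homogeneous
import Groth.Agent.Lib.CurveSection
import Groth.Agent.S2156

/-! Generic smoothness of morphisms of smooth schemes in characteristic zero. -/

set_option linter.style.haveILetI false
set_option backward.isDefEq.respectTransparency false
set_option backward.isDefEq.respectTransparency.types false

universe u

open CategoryTheory CategoryTheory.Limits AlgebraicGeometry TopologicalSpace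

attribute [local instance] Curv2.resAlgebra

namespace Groth.Agent.Kleiman

/-- The residue field of a closed point of a scheme of finite type over a field is finite. -/
theorem finite_resMap (K : Type u) [Field K] {X : Scheme.{u}} [X.Over (Spec (CommRingCat.of K))]
    [LocallyOfFiniteType (X ↘ Spec (CommRingCat.of K))] {x : X} (hx : IsClosed ({x} : Set X)) :
    (Curv2.resMap K X x).Finite := by
  haveI : IsClosedImmersion (X.fromSpecResidueField x) := isClosed_singleton_iff_isClosedImmersion.mp hx
  have h : LocallyOfFiniteType (Spec.map (CommRingCat.ofHom (Curv2.resMap K X x))) := by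
    rw [← GeomConn5.spec_resMap]; infer_instance
  rw [HasRingHomProperty.Spec_iff (P := @LocallyOfFiniteType)] at h
  letI := (Curv2.resMap K X x).toAlgebra
  haveI : Algebra.FiniteType K (X.residueField x) := h
  exact finite_of_finite_type_of_isJacobsonRing K (X.residueField x)

/-- Over a perfect field, a scheme of finite type that is regular at its closed points is smooth. -/
theorem smooth_of_regular (K : Type u) [Field K] [PerfectField K] {X : Scheme.{u}}
    [X.Over (Spec (CommRingCat.of K))] [LocallyOfFiniteType (X ↘ Spec (CommRingCat.of K))]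
    (hreg : ∀ x : X, IsClosed ({x} : Set X) → IsRegularLocalRing (X.presheaf.stalk x)) :
    Smooth (X ↘ Spec (CommRingCat.of K)) := by
  haveI : JacobsonSpace X := LocallyOfFiniteType.jacobsonSpace (X ↘ Spec (CommRingCat.of K))
  rw [← Scheme.Hom.smoothLocus_eq_top_iff, ← TopologicalSpace.Opens.coe_eq_univ]
  by_contra hne
  obtain ⟨x, hx, hxc⟩ := nonempty_inter_closedPoints (Set.nonempty_compl.2 hne)
    (X ↘ Spec (CommRingCat.of K)).smoothLocus.2.isClosed_compl.isLocallyClosed
  haveI : Module.Finite K (X.residueField x) := finite_resMap K hxc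
  exact hx (SmoothReg.mem_smoothLocus_of_isSeparable _ x (fun c => rfl) (hreg x hxc))

/-- **Generic smoothness**: in characteristic zero, a morphism from a smooth scheme to an integral scheme
is smooth over a nonempty open subset. -/
theorem exists_open_le_smoothLocus {k : Type u} [Field k] [CharZero k] {W Y : Scheme.{u}}
    (q : W ⟶ Y) (r : Y ⟶ Spec (CommRingCat.of k)) [IsIntegral Y] [LocallyOfFiniteType r]
    [QuasiSeparated r] [Smooth (q ≫ r)] [QuasiCompact (q ≫ r)] [LocallyOfFinitePresentation q] :
    ∃ V : Y.Opens, (V : Set Y).Nonempty ∧ q ⁻¹ᵁ V ≤ q.smoothLocus := by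
  haveI : IsLocallyNoetherian Y := LocallyOfFiniteType.isLocallyNoetherian r
  haveI : QuasiCompact q := QuasiCompact.of_comp q r
  have hgen : ∀ x : W, q x = genericPoint Y → x ∈ q.smoothLocus := by
    intro x hx
    have hfield : IsField (Y.presheaf.stalk (q x)) := by
      rw [hx]; exact Field.toIsField Y.functionField
    haveI : LocallyOfFinitePresentation (q.fiberToSpecResidueField (q x)) :=
      inferInstanceAs (LocallyOfFinitePresentation (pullback.snd q (Y.fromSpecResidueField (q x))))
    rw [Groth.Agent.S2156.result q x]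
    refine ⟨RingHom.Flat.of_isField hfield _, ?_⟩
    let K := Y.residueField (q x)
    letI : (q.fiber (q x)).Over (Spec (CommRingCat.of K)) := ⟨q.fiberToSpecResidueField (q x)⟩
    haveI : LocallyOfFiniteType (q.fiber (q x) ↘ Spec (CommRingCat.of K)) :=
      inferInstanceAs (LocallyOfFiniteType (pullback.snd q (Y.fromSpecResidueField (q x))))
    haveI : CharZero K := charZero_of_injective_ringHom
      (Spec.preimage (Y.fromSpecResidueField (q x) ≫ r)).hom.injective
    haveI : PerfectField K := PerfectField.ofCharZero
    have hs : Smooth (q.fiber (q x) ↘ Spec (CommRingCat.of K)) := smooth_of_regular K fun w _ => by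
      haveI := GrpSchLib.isRegularLocalRing_stalk_of_smooth (q ≫ r) (q.fiberι (q x) w)
      refine IsRegularLocalRing.of_ringEquiv
        (RingEquiv.ofBijective ((q.fiberι (q x)).stalkMap w).hom
          ⟨?_, (q.fiberι (q x)).stalkMap_surjective w⟩)
      rw [RingHom.injective_iff_ker_eq_bot, FlatDvr.ker_stalkMap_fiberι]
      have hf : IsField (Y.presheaf.stalk (q (q.fiberι (q x) w))) := by
        rw [FlatDvr.fiberι_apply_eq q w]; exact hfield
      rw [IsLocalRing.isField_iff_maximalIdeal_eq.1 hf, Ideal.map_bot]
    rw [← Scheme.Hom.smoothLocus_eq_top_iff] at hs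
    exact hs.ge trivial
  let Z : Closeds W := ⟨(q.smoothLocus : Set W)ᶜ, q.smoothLocus.2.isClosed_compl⟩
  let I := Scheme.IdealSheafData.vanishingIdeal Z
  have hI : Set.range I.subschemeι = (q.smoothLocus : Set W)ᶜ := H23.RedSub.range_vanishingIdeal _
  by_cases hne : Nonempty I.subscheme
  · obtain ⟨V₀, hV₀, hne₀, hsub⟩ := GrpSchLib.exists_isOpen_inter_closure_range_subset (I.subschemeι ≫ q)
    have hη : genericPoint Y ∉ Set.range (I.subschemeι ≫ q) := by
      rintro ⟨w, hw⟩
      exact hI.le ⟨w, rfl⟩ (hgen _ hw)
    refine ⟨⟨(closure (Set.range (I.subschemeι ≫ q)))ᶜ, isClosed_closure.isOpen_compl⟩, ⟨genericPoint Y, ?_⟩, ?_⟩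
    · intro hc
      obtain ⟨y, hy, -⟩ := hne₀
      exact hη (hsub ⟨(genericPoint_specializes y).mem_open hV₀ hy, hc⟩)
    · intro w hw
      by_contra hws
      obtain ⟨z, rfl⟩ := hI.ge hws
      exact hw (subset_closure ⟨z, rfl⟩)
  · refine ⟨⊤, ⟨genericPoint Y, trivial⟩, fun w _ => ?_⟩
    by_contra hws
    obtain ⟨z, -⟩ := hI.ge hws
    exact hne ⟨z⟩

end Groth.Agent.Kleiman
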