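import Groth.Agent.Kleiman.Generic
import Groth.Agent.GrpSchLib.Cartier
import Groth.Prelude.Def_AlgGrp

/-! Orbit maps of homogeneous spaces in characteristic zero are smooth. -/

set_option linter.style.haveILetI false
set_option backward.isDefEq.respectTransparency false
set_option backward.isDefEq.respectTransparency.types false

universe u

open CategoryTheory CategoryTheory.Limits MonoidalCategory CartesianMonoidalCategory MonObj GrpObj
  AlgebraicGeometry TopologicalSpace

namespace Groth.Agent.Kleiman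

variable {k : Type u} [Field k] [IsAlgClosed k]

/-- Closed points are rational points. -/
theorem exists_point {W : Over (Spec (CommRingCat.of k))} [LocallyOfFiniteType W.hom] {c : W.left} (hc : IsClosed {c}) :
    ∃ w : 𝟙_ (Over (Spec (CommRingCat.of k))) ⟶ W, w.left (IsLocalRing.closedPoint k) = c :=
  ⟨Over.homMk ((pointEquivClosedPoint W.hom).symm ⟨c, hc⟩).1 ((pointEquivClosedPoint W.hom).symm ⟨c, hc⟩).2,
    congrArg Subtype.val ((pointEquivClosedPoint W.hom).apply_symm_apply ⟨c, hc⟩)⟩

theorem mem_smoothLocus_comp_iso {A B B' : Scheme.{u}} (o : A ⟶ B) (T : B ⟶ B') [IsIso T]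
    [LocallyOfFinitePresentation o] (z : A) : z ∈ (o ≫ T).smoothLocus ↔ z ∈ o.smoothLocus := by
  rw [Scheme.Hom.mem_smoothLocus, Scheme.Hom.mem_smoothLocus, Scheme.Hom.stalkMap_comp, CommRingCat.hom_comp]
  exact RingHom.FormallySmooth.respectsIso.cancel_left_isIso _ _

variable {G X : Over (Spec (CommRingCat.of k))} [GrpObj G] (a : AlgGrp.Action G X)

/-- Translation of the group by a point. -/
noncomputable def leftTrans (σ : 𝟙_ (Over (Spec (CommRingCat.of k))) ⟶ G) : G ≅ G where
  hom := (toUnit G ≫ σ) * 𝟙 G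
  inv := (toUnit G ≫ σ)⁻¹ * 𝟙 G
  hom_inv_id := by
    rw [MonObj.comp_mul, GrpObj.comp_inv, ← Category.assoc, comp_toUnit, Category.comp_id, inv_mul_cancel_left]
  inv_hom_id := by
    rw [MonObj.comp_mul, ← Category.assoc, comp_toUnit, Category.comp_id, mul_inv_cancel_left]

/-- Translation of the space by a point of the group. -/
noncomputable def actTrans (σ : 𝟙_ (Over (Spec (CommRingCat.of k))) ⟶ G) : X ≅ X where
  hom := lift (toUnit X ≫ σ) (𝟙 X) ≫ a.act
  inv := lift (toUnit X ≫ σ)⁻¹ (𝟙 X) ≫ a.act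
  hom_inv_id := by
    rw [← Category.assoc, comp_lift, GrpObj.comp_inv, ← Category.assoc, comp_toUnit, Category.comp_id,
      GrpSchLib.act_mul, inv_mul_cancel, GrpSchLib.act_one]
  inv_hom_id := by
    rw [← Category.assoc, comp_lift, ← Category.assoc, comp_toUnit, Category.comp_id,
      GrpSchLib.act_mul, mul_inv_cancel, GrpSchLib.act_one]

theorem leftTrans_orbitMap (σ : 𝟙_ (Over (Spec (CommRingCat.of k))) ⟶ G) (x : 𝟙_ (Over (Spec (CommRingCat.of k))) ⟶ X) :
    (leftTrans σ).hom ≫ a.orbitMap x = a.orbitMap x ≫ (actTrans a σ).hom := by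
  simp only [leftTrans, actTrans, AlgGrp.Action.orbitMap]
  rw [← Category.assoc, comp_lift, Category.comp_id, ← Category.assoc, comp_toUnit]
  conv_rhs => rw [← Category.assoc, comp_lift, Category.comp_id, ← Category.assoc, comp_toUnit,
    GrpSchLib.act_mul]

variable [CharZero k] [IsIntegral G.left] [IsSeparated G.hom] [LocallyOfFiniteType G.hom] [QuasiCompact G.hom]
    [IsIntegral X.left] [IsSeparated X.hom] [LocallyOfFiniteType X.hom] [QuasiCompact X.hom]

theorem smooth_orbitMap
    (htrans : ∀ x x' : 𝟙_ (Over (Spec (CommRingCat.of k))) ⟶ X, ∃ σ : 𝟙_ (Over (Spec (CommRingCat.of k))) ⟶ G, lift σ x ≫ a.act = x')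
    (x : 𝟙_ (Over (Spec (CommRingCat.of k))) ⟶ X) : Smooth (a.orbitMap x).left := by
  haveI hGsm : Smooth G.hom := GrpSchLib.smooth_of_isReduced_of_isAlgClosed G
  let o := (a.orbitMap x).left
  haveI : IsLocallyNoetherian X.left := LocallyOfFiniteType.isLocallyNoetherian X.hom
  have how : o ≫ X.hom = G.hom := Over.w _
  haveI : LocallyOfFiniteType (o ≫ X.hom) := by rw [how]; infer_instance
  haveI : LocallyOfFiniteType o := locallyOfFiniteType_of_comp o X.hom
  haveI : LocallyOfFinitePresentation o := LocallyOfFinitePresentation.iff_locallyOfFiniteType.2 inferInstance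
  haveI : Smooth (o ≫ X.hom) := by rw [how]; infer_instance
  haveI : QuasiCompact (o ≫ X.hom) := by rw [how]; infer_instance
  haveI : JacobsonSpace X.left := LocallyOfFiniteType.jacobsonSpace X.hom
  haveI : JacobsonSpace G.left := LocallyOfFiniteType.jacobsonSpace G.hom
  obtain ⟨V, hVne, hV⟩ := exists_open_le_smoothLocus o X.hom
  obtain ⟨c, hcV, hc⟩ := nonempty_inter_closedPoints hVne V.2.isLocallyClosed
  obtain ⟨x', hx'⟩ := exists_point hc
  obtain ⟨σ, hσ⟩ := htrans x x'
  have hox : σ ≫ a.orbitMap x = x' := by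
    rw [← hσ, AlgGrp.Action.orbitMap, ← Category.assoc, comp_lift, Category.comp_id, ← Category.assoc,
      toUnit_unique (σ ≫ toUnit G) (𝟙 _), Category.id_comp]
  have hmem : σ.left (IsLocalRing.closedPoint k) ∈ o.smoothLocus := by
    refine hV ?_
    show o (σ.left (IsLocalRing.closedPoint k)) ∈ V
    have := congrArg (fun e : 𝟙_ (Over (Spec (CommRingCat.of k))) ⟶ X => e.left (IsLocalRing.closedPoint k)) hox
    simp only [Over.comp_left, Scheme.Hom.comp_apply] at this
    rw [this, hx']
    exact hcV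
  rw [← Scheme.Hom.smoothLocus_eq_top_iff, ← TopologicalSpace.Opens.coe_eq_univ]
  by_contra hne
  obtain ⟨g, hg, hgc⟩ := nonempty_inter_closedPoints (Set.nonempty_compl.2 hne)
    o.smoothLocus.2.isClosed_compl.isLocallyClosed
  obtain ⟨g', hg'⟩ := exists_point hgc
  let τ : 𝟙_ (Over (Spec (CommRingCat.of k))) ⟶ G := σ * g'⁻¹
  have hτ : g' ≫ (leftTrans τ).hom = σ := by
    simp only [leftTrans]
    rw [MonObj.comp_mul, ← Category.assoc, toUnit_unique (g' ≫ toUnit G) (𝟙 _), Category.id_comp,
      Category.comp_id]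
    exact inv_mul_cancel_right σ g'
  haveI : IsIso (leftTrans τ).hom.left := ((Over.forget _).mapIso (leftTrans τ)).isIso_hom
  haveI : IsIso (actTrans a τ).hom.left := ((Over.forget _).mapIso (actTrans a τ)).isIso_hom
  have heq : (leftTrans τ).hom.left ≫ o = o ≫ (actTrans a τ).hom.left :=
    congrArg CommaMorphism.left (leftTrans_orbitMap a τ x)
  have hL : (leftTrans τ).hom.left g = σ.left (IsLocalRing.closedPoint k) := by
    rw [← hg']
    exact congrArg (fun e : 𝟙_ (Over (Spec (CommRingCat.of k))) ⟶ G => e.left (IsLocalRing.closedPoint k)) hτ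
  have h1 : g ∈ (leftTrans τ).hom.left ⁻¹ᵁ o.smoothLocus := by
    show (leftTrans τ).hom.left g ∈ o.smoothLocus
    rw [hL]; exact hmem
  rw [Scheme.Hom.preimage_smoothLocus_eq] at h1
  have h2 : ∀ (e : G.left ⟶ X.left) [LocallyOfFinitePresentation e], e = o ≫ (actTrans a τ).hom.left →
      g ∈ e.smoothLocus → g ∈ o.smoothLocus := by
    rintro e _ rfl he
    exact (mem_smoothLocus_comp_iso _ _ g).1 he
  exact hg (h2 _ heq h1)

/-- The orbit map is surjective. -/
theorem surjective_orbitMap
    (htrans : ∀ x x' : 𝟙_ (Over (Spec (CommRingCat.of k))) ⟶ X, ∃ σ : 𝟙_ (Over (Spec (CommRingCat.of k))) ⟶ G, lift σ x ≫ a.act = x')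
    (x : 𝟙_ (Over (Spec (CommRingCat.of k))) ⟶ X) : Surjective (a.orbitMap x).left := by
  haveI := smooth_orbitMap a htrans x
  haveI : JacobsonSpace X.left := LocallyOfFiniteType.jacobsonSpace X.hom
  refine ⟨Set.range_eq_univ.1 ?_⟩
  by_contra hne
  obtain ⟨c, hc1, hc⟩ := nonempty_inter_closedPoints (Set.nonempty_compl.2 hne)
    ((a.orbitMap x).left.isOpenMap.isOpen_range.isClosed_compl.isLocallyClosed)
  obtain ⟨x', hx'⟩ := exists_point hc
  obtain ⟨σ, hσ⟩ := htrans x x'
  refine hc1 ⟨σ.left (IsLocalRing.closedPoint k), ?_⟩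
  rw [← hx', ← hσ]
  have e : σ ≫ a.orbitMap x = lift σ x ≫ a.act := by
    rw [AlgGrp.Action.orbitMap, ← Category.assoc, comp_lift, Category.comp_id, ← Category.assoc,
      toUnit_unique (σ ≫ toUnit G) (𝟙 _), Category.id_comp]
  exact congrArg (fun e : 𝟙_ (Over (Spec (CommRingCat.of k))) ⟶ X => e.left (IsLocalRing.closedPoint k)) e

end Groth.Agent.Kleiman
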