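import Groth.Agent.SmoothReg.Scheme
import Groth.Agent.FibDim.BaseField
import Groth.Agent.S2559
import Mathlib

/-! Dimensions of fibres over rational points. -/

set_option linter.style.haveILetI false
set_option backward.isDefEq.respectTransparency false
set_option backward.isDefEq.respectTransparency.types false

universe u

open CategoryTheory CategoryTheory.Limits AlgebraicGeometry TopologicalSpace

namespace Groth.Agent.Kleiman

variable {k : Type u} [Field k]

/-- The dimension of a scheme of finite type is read off at its closed points. -/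
theorem topologicalKrullDim_eq_of_stalk {X : Scheme.{u}} (f : X ⟶ Spec (CommRingCat.of k))
    [LocallyOfFiniteType f] [Nonempty X] {d : ℕ}
    (h : ∀ x : X, IsClosed ({x} : Set X) → ringKrullDim (X.presheaf.stalk x) = d) :
    topologicalKrullDim X = d := by
  haveI : JacobsonSpace X := LocallyOfFiniteType.jacobsonSpace f
  have key : ∀ c : X, IsClosed ({c} : Set X) →
      (∀ η, η ⤳ c → VarDim.deg f η ≤ d) ∧ ∃ η, η ⤳ c ∧ VarDim.deg f η = d := by
    intro c hc
    obtain ⟨b, hb, ⟨η, hη, hηb⟩, hle⟩ := VarDim.exists_deg_add_stalk f c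
    have hbd : b = d := by
      have := hb.symm.trans (h c hc)
      exact_mod_cast this
    rw [(VarDim.closedPoint_iff_deg_eq_zero f c).1 hc, zero_add, hbd] at hηb
    refine ⟨fun η' hη' => ?_, η, hη, hηb⟩
    have := hle η' hη'
    rwa [(VarDim.closedPoint_iff_deg_eq_zero f c).1 hc, zero_add, hbd] at this
  rw [VarDim.topologicalKrullDim_eq_iSup_deg f]
  refine le_antisymm (iSup_le fun x => ?_) ?_
  · obtain ⟨c, hcx, hc⟩ := nonempty_inter_closedPoints (Z := closure ({x} : Set X)) ⟨x, subset_closure rfl⟩
      isClosed_closure.isLocallyClosed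
    exact_mod_cast (key c hc).1 x (specializes_iff_mem_closure.2 hcx)
  · obtain ⟨c, -, hc⟩ := nonempty_inter_closedPoints (Z := (Set.univ : Set X)) Set.univ_nonempty
      isClosed_univ.isLocallyClosed
    obtain ⟨-, η, -, hη⟩ := key c hc
    exact le_iSup_of_le η (by rw [hη]; rfl)

/-- The dimension formula at a point of a fibre over a rational point. -/
theorem ringKrullDim_stalk_pullback_point {A B : Scheme.{u}} (rB : B ⟶ Spec (CommRingCat.of k))
    (q : A ⟶ B) [LocallyOfFiniteType rB] [LocallyOfFiniteType q]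
    (ζ : Spec (CommRingCat.of k) ⟶ B) (hζ : ζ ≫ rB = 𝟙 _)
    (hopen : ∀ u : A, q u = ζ (IsLocalRing.closedPoint k) → EGA43.IsOpenAt q.base u)
    (y : ↥(pullback q ζ)) :
    ringKrullDim (A.presheaf.stalk (pullback.fst q ζ y)) =
      ringKrullDim (B.presheaf.stalk (ζ (IsLocalRing.closedPoint k))) +
        ringKrullDim ((pullback q ζ).presheaf.stalk y) := by
  haveI : IsLocallyNoetherian B := LocallyOfFiniteType.isLocallyNoetherian rB
  haveI : IsLocallyNoetherian A := LocallyOfFiniteType.isLocallyNoetherian q
  let b := ζ (IsLocalRing.closedPoint k)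
  let φ : B.residueField b ⟶ CommRingCat.of k := B.descResidueField (Scheme.stalkClosedPointTo ζ)
  have hφ : Spec.map φ ≫ B.fromSpecResidueField b = ζ :=
    Scheme.descResidueField_stalkClosedPointTo_fromSpecResidueField k B ζ
  haveI : IsIso φ := by
    have h1 : Spec.preimage (B.fromSpecResidueField b ≫ rB) ≫ φ = 𝟙 _ := Spec.map_injective (by
      rw [Spec.map_comp, Spec.map_preimage, reassoc_of% hφ, hζ, Spec.map_id])
    have hb : Function.Bijective φ.hom :=
      ⟨φ.hom.injective, fun c => ⟨(Spec.preimage (B.fromSpecResidueField b ≫ rB)).hom c,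
        RingHom.congr_fun (congrArg CommRingCat.Hom.hom h1) c⟩⟩
    exact (ConcreteCategory.isIso_iff_bijective φ).2 hb
  let e : pullback q ζ ⟶ q.fiber b := pullback.map q ζ q (B.fromSpecResidueField b) (𝟙 _) (Spec.map φ) (𝟙 _)
    (by simp) (by rw [Category.comp_id, hφ])
  haveI : IsIso e := pullback.map_isIso ..
  have he : e ≫ q.fiberι b = pullback.fst q ζ := by
    simp only [e, Scheme.Hom.fiberι, pullback.map, pullback.lift_fst, Category.comp_id]
  have hw : q.fiberι b (e y) = pullback.fst q ζ y := by rw [← Scheme.Hom.comp_apply, he]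
  have hst : ringKrullDim ((pullback q ζ).presheaf.stalk y) = ringKrullDim ((q.fiber b).presheaf.stalk (e y)) :=
    (ringKrullDim_eq_of_ringEquiv (asIso (e.stalkMap y)).commRingCatIsoToRingEquiv).symm
  rw [hst]
  have main : ∀ (w : A) (c : B) (z : q.fiber c), q.fiberι c z = w →
      (∀ u : A, q u = c → EGA43.IsOpenAt q.base u) →
      ringKrullDim (A.presheaf.stalk w) =
        ringKrullDim (B.presheaf.stalk c) + ringKrullDim ((q.fiber c).presheaf.stalk z) := by
    intro w c z hz ho
    have hc : q w = c := by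
      have : q.fiberι c z ∈ Set.range (q.fiberι c) := ⟨z, rfl⟩
      rw [Scheme.Hom.range_fiberι, hz] at this
      exact this
    subst hc
    obtain rfl : z = q.asFiber w :=
      (q.fiberι (q w)).isEmbedding.injective (hz.trans (q.fiberι_asFiber w).symm)
    refine Groth.Agent.S2559.result q w fun v _ _ => ho _ ?_
    have : q.fiberι (q w) v ∈ Set.range (q.fiberι (q w)) := ⟨v, rfl⟩
    rwa [Scheme.Hom.range_fiberι] at this
  exact main _ _ _ hw hopen

/-- Flat morphisms locally of finite presentation are open at every point. -/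
theorem isOpenAt_of_flat {A B : Scheme.{u}} (q : A ⟶ B) (U : A.Opens) [Flat (U.ι ≫ q)]
    [LocallyOfFinitePresentation q] {u : A} (hu : u ∈ U) : EGA43.IsOpenAt q.base u := by
  intro N hN
  have hopen : IsOpenMap (U.ι ≫ q) := (U.ι ≫ q).isOpenMap
  have h := hopen.image_mem_nhds (x := (⟨u, hu⟩ : U.toScheme)) (U.ι.continuous.continuousAt.preimage_mem_nhds hN)
  refine Filter.mem_of_superset h ?_
  rintro _ ⟨v, hv, rfl⟩
  exact ⟨U.ι v, hv, rfl⟩

end Groth.Agent.Kleiman
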