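import Groth.Agent.Kleiman.Orbit
import Groth.Agent.Kleiman.Dim
import Groth.Agent.SrcDescent.LocalAtSource
import Groth.Agent.S1582

/-! Kleiman's transversality theorem. -/

set_option linter.style.haveILetI false
set_option backward.isDefEq.respectTransparency false
set_option backward.isDefEq.respectTransparency.types false

universe u

open CategoryTheory CategoryTheory.Limits MonoidalCategory CartesianMonoidalCategory MonObj GrpObj
  AlgebraicGeometry TopologicalSpace

namespace Groth.Agent.Kleiman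

variable {k : Type u} [Field k]

theorem isClosed_point {A : Scheme.{u}} (rA : A ⟶ Spec (CommRingCat.of k)) [IsSeparated rA]
    (s : Spec (CommRingCat.of k) ⟶ A) (hs : s ≫ rA = 𝟙 _) :
    IsClosed ({s (IsLocalRing.closedPoint k)} : Set A) := by
  have := isClosedImmersion_of_comp_eq_id _ _ hs
  have := s.isClosedEmbedding.isClosed_range
  rwa [Set.range_eq_singleton] at this
  exact fun x => congrArg s (Subsingleton.elim _ _)

theorem exists_stalk_dim {A : Scheme.{u}} (rA : A ⟶ Spec (CommRingCat.of k)) [LocallyOfFiniteType rA]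
    (x : A) : ∃ b : ℕ, ringKrullDim (A.presheaf.stalk x) = b :=
  ⟨_, (VarDim.exists_deg_add_stalk rA x).choose_spec.1⟩

section

variable {G X : Over (Spec (CommRingCat.of k))} [GrpObj G] (a : AlgGrp.Action G X)

/-- Multiplication on the group coordinate by a function of the other coordinate. -/
noncomputable def mulTrans {P : Over (Spec (CommRingCat.of k))} (p : P ⟶ G) : G ⊗ P ≅ G ⊗ P where
  hom := lift (fst G P * (snd G P ≫ p)) (snd G P)
  inv := lift (fst G P * (snd G P ≫ p)⁻¹) (snd G P)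
  hom_inv_id := by
    apply CartesianMonoidalCategory.hom_ext
    · rw [Category.assoc, lift_fst, MonObj.comp_mul, GrpObj.comp_inv, ← Category.assoc, lift_snd, lift_fst,
        mul_inv_cancel_right, Category.id_comp]
    · simp
  inv_hom_id := by
    apply CartesianMonoidalCategory.hom_ext
    · rw [Category.assoc, lift_fst, MonObj.comp_mul, ← Category.assoc, lift_snd, lift_fst,
        inv_mul_cancel_right, Category.id_comp]
    · simp

variable [IsAlgClosed k] [CharZero k] [IsIntegral G.left] [IsSeparated G.hom] [LocallyOfFiniteType G.hom]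
  [QuasiCompact G.hom] [IsIntegral X.left] [IsSeparated X.hom] [LocallyOfFiniteType X.hom] [QuasiCompact X.hom]

theorem smooth_actComp
    (htrans : ∀ x x' : 𝟙_ (Over (Spec (CommRingCat.of k))) ⟶ X,
      ∃ σ : 𝟙_ (Over (Spec (CommRingCat.of k))) ⟶ G, lift σ x ≫ a.act = x')
    {Y : Over (Spec (CommRingCat.of k))} [Smooth Y.hom] (f : Y ⟶ X) :
    Smooth (lift (fst G Y) (snd G Y ≫ f) ≫ a.act).left := by
  haveI : JacobsonSpace X.left := LocallyOfFiniteType.jacobsonSpace X.hom
  obtain ⟨c, -, hc⟩ := nonempty_inter_closedPoints (Z := (Set.univ : Set X.left)) Set.univ_nonempty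
    isClosed_univ.isLocallyClosed
  obtain ⟨x₀, -⟩ := exists_point hc
  let o := a.orbitMap x₀
  haveI : Smooth o.left := smooth_orbitMap a htrans x₀
  haveI : Surjective o.left := surjective_orbitMap a htrans x₀
  let P : Over (Spec (CommRingCat.of k)) := Over.mk (pullback.fst f.left o.left ≫ Y.hom)
  let p₁ : P ⟶ Y := Over.homMk (pullback.fst f.left o.left) rfl
  let p₂ : P ⟶ G := Over.homMk (pullback.snd f.left o.left) (by
    show pullback.snd f.left o.left ≫ G.hom = pullback.fst f.left o.left ≫ Y.hom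
    rw [← Over.w o, ← pullback.condition_assoc, Over.w f])
  have hp : p₁ ≫ f = p₂ ≫ o := Over.OverMorphism.ext pullback.condition
  haveI : Smooth P.hom := inferInstanceAs (Smooth (pullback.fst f.left o.left ≫ Y.hom))
  have hp₁s : Smooth p₁.left := inferInstanceAs (Smooth (pullback.fst f.left o.left))
  have hp₁j : Surjective p₁.left := inferInstanceAs (Surjective (pullback.fst f.left o.left))
  let θ : G ⊗ P ⟶ G ⊗ Y := G ◁ p₁
  have hθ : θ = (β_ G P).hom ≫ (p₁ ▷ G) ≫ (β_ Y G).hom := by
    apply CartesianMonoidalCategory.hom_ext <;> simp [θ]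
  haveI : IsIso (β_ G P).hom.left := ((Over.forget _).mapIso (β_ G P)).isIso_hom
  haveI : IsIso (β_ Y G).hom.left := ((Over.forget _).mapIso (β_ Y G)).isIso_hom
  haveI : Smooth θ.left := by
    haveI : Smooth (p₁ ▷ G).left := GrpSchLib.property_whiskerRight p₁ G @Smooth hp₁s
    rw [hθ, Over.comp_left, Over.comp_left]; infer_instance
  haveI : Surjective θ.left := by
    haveI : Surjective (p₁ ▷ G).left := GrpSchLib.property_whiskerRight p₁ G @Surjective hp₁j
    rw [hθ, Over.comp_left, Over.comp_left]; infer_instance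
  refine SrcDescent.smooth_of_smooth_comp θ.left _ ?_
  have key : θ ≫ lift (fst G Y) (snd G Y ≫ f) ≫ a.act = (mulTrans p₂).hom ≫ fst G P ≫ o := by
    have h1 : θ ≫ lift (fst G Y) (snd G Y ≫ f) = lift (fst G P) (snd G P ≫ p₂ ≫ o) := by
      apply CartesianMonoidalCategory.hom_ext
      · simp [θ]
      · simp [θ, hp]
    have h2 : snd G P ≫ p₂ ≫ o = lift (snd G P ≫ p₂) (toUnit _ ≫ x₀) ≫ a.act := by
      simp only [o, AlgGrp.Action.orbitMap]
      rw [← Category.assoc (snd G P), ← Category.assoc (snd G P ≫ p₂), comp_lift, Category.comp_id,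
        ← Category.assoc, comp_toUnit]
    have h3 : (mulTrans p₂).hom ≫ fst G P ≫ o = lift (fst G P * (snd G P ≫ p₂)) (toUnit _ ≫ x₀) ≫ a.act := by
      simp only [o, AlgGrp.Action.orbitMap, mulTrans]
      rw [lift_fst_assoc, ← Category.assoc, comp_lift, Category.comp_id, ← Category.assoc, comp_toUnit]
    rw [← Category.assoc, h1, h2, h3, GrpSchLib.act_mul]
  rw [← Over.comp_left, key, Over.comp_left, Over.comp_left]
  haveI : IsIso (mulTrans p₂).hom.left := ((Over.forget _).mapIso (mulTrans p₂)).isIso_hom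
  haveI : Smooth (fst G P).left := inferInstanceAs (Smooth (pullback.fst G.hom P.hom))
  infer_instance

theorem kleiman
    (htrans : ∀ x x' : 𝟙_ (Over (Spec (CommRingCat.of k))) ⟶ X,
      ∃ σ : 𝟙_ (Over (Spec (CommRingCat.of k))) ⟶ G, lift σ x ≫ a.act = x')
    {Y Z : Scheme.{u}} (f : Y ⟶ X.left) (g : Z ⟶ X.left)
    [IsIntegral Y] [IsSeparated (f ≫ X.hom)] [QuasiCompact (f ≫ X.hom)] [Smooth (f ≫ X.hom)]
    [IsIntegral Z] [IsSeparated (g ≫ X.hom)] [QuasiCompact (g ≫ X.hom)] [Smooth (g ≫ X.hom)]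
    (n r s : ℕ) (hn : topologicalKrullDim ↥X.left = n) (hr : topologicalKrullDim ↥Y = r)
    (hs : topologicalKrullDim ↥Z = s) :
    ∃ V : G.left.Opens, (V : Set ↥G.left).Nonempty ∧
      ∀ σ : 𝟙_ (Over (Spec (CommRingCat.of k))) ⟶ G, Set.range σ.left.base ⊆ (V : Set ↥G.left) →
        ∀ fσ : Y ⟶ X.left,
          fσ = (lift (toUnit (Over.mk (f ≫ X.hom)) ≫ σ) (Over.homMk f) ≫ a.act).left →
          Smooth (pullback.fst fσ g ≫ f ≫ X.hom) ∧
            (IsEmpty ↥(pullback fσ g) ∨ (n ≤ r + s ∧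
              topologicalKrullDim ↥(pullback fσ g) = ((r + s - n : ℕ) : WithBot ℕ∞))) := by
  let Y' : Over (Spec (CommRingCat.of k)) := Over.mk (f ≫ X.hom)
  haveI : Smooth Y'.hom := ‹Smooth (f ≫ X.hom)›
  let f' : Y' ⟶ X := Over.homMk f rfl
  let hM : G ⊗ Y' ⟶ X := lift (fst G Y') (snd G Y' ≫ f') ≫ a.act
  haveI hhs : Smooth hM.left := smooth_actComp a htrans f'
  let GY : Scheme.{u} := pullback G.hom (f ≫ X.hom)
  let h : GY ⟶ X.left := hM.left
  haveI : Smooth h := hhs
  let prG : GY ⟶ G.left := pullback.fst G.hom (f ≫ X.hom)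
  let prY : GY ⟶ Y := pullback.snd G.hom (f ≫ X.hom)
  have hhX : h ≫ X.hom = prG ≫ G.hom := Over.w hM
  haveI : IsSeparated (prG ≫ G.hom) := inferInstance
  haveI : QuasiCompact h := by
    haveI : QuasiCompact (h ≫ X.hom) := by rw [hhX]; infer_instance
    exact QuasiCompact.of_comp h X.hom
  let W : Scheme.{u} := pullback h g
  let π : W ⟶ Z := pullback.snd h g
  let q : W ⟶ G.left := pullback.fst h g ≫ prG
  have hq : q ≫ G.hom = π ≫ g ≫ X.hom := by
    simp only [q, π, Category.assoc, ← hhX]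
    exact pullback.condition_assoc _
  haveI : Smooth (q ≫ G.hom) := by rw [hq]; infer_instance
  haveI : QuasiCompact (q ≫ G.hom) := by rw [hq]; infer_instance
  haveI : LocallyOfFiniteType q := locallyOfFiniteType_of_comp q G.hom
  haveI : IsLocallyNoetherian G.left := LocallyOfFiniteType.isLocallyNoetherian G.hom
  haveI : LocallyOfFinitePresentation q := LocallyOfFinitePresentation.iff_locallyOfFiniteType.2 inferInstance
  obtain ⟨V, hVne, hV⟩ := exists_open_le_smoothLocus q G.hom
  refine ⟨V, hVne, fun σ hσV fσ hfσ => ?_⟩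
  let σ₀ : Spec (CommRingCat.of k) ⟶ G.left := σ.left
  have hσ : σ₀ ≫ G.hom = 𝟙 _ := Over.w σ
  -- the embedding `Y ⟶ G × Y` at `σ`
  let jM : Y' ⟶ G ⊗ Y' := lift (toUnit Y' ≫ σ) (𝟙 Y')
  let j : Y ⟶ GY := jM.left
  have hjY : j ≫ prY = 𝟙 Y := congrArg CommaMorphism.left (lift_snd (toUnit Y' ≫ σ) (𝟙 Y'))
  have hjG : j ≫ prG = (f ≫ X.hom) ≫ σ₀ := congrArg CommaMorphism.left (lift_fst (toUnit Y' ≫ σ) (𝟙 Y'))
  have hjh : j ≫ h = fσ := by
    rw [hfσ]
    refine congrArg CommaMorphism.left (?_ : jM ≫ hM = _)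
    simp only [jM, hM, f']
    rw [← Category.assoc, comp_lift, lift_fst, lift_snd_assoc, Category.id_comp]
  have hj : IsPullback j (f ≫ X.hom) prG σ₀ := by
    refine IsPullback.of_right (h₁₂ := prY) (v₁₃ := f ≫ X.hom) (h₂₂ := G.hom) ?_ hjG
      (IsPullback.of_hasPullback G.hom (f ≫ X.hom)).flip
    rw [hjY, hσ]
    exact IsPullback.of_horiz_isIso ⟨by simp⟩
  let l : pullback fσ g ⟶ W := pullback.lift (pullback.fst fσ g ≫ j) (pullback.snd fσ g)
    (by rw [Category.assoc, hjh]; exact pullback.condition)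
  have hl : IsPullback l (pullback.fst fσ g) (pullback.fst h g) j := by
    refine IsPullback.of_right (h₁₂ := π) (v₁₃ := g) (h₂₂ := h) ?_ (pullback.lift_fst _ _ _)
      (IsPullback.of_hasPullback h g).flip
    rw [show l ≫ π = pullback.snd fσ g from pullback.lift_snd _ _ _, hjh]
    exact (IsPullback.of_hasPullback fσ g).flip
  have hF : IsPullback l (pullback.fst fσ g ≫ f ≫ X.hom) q σ₀ := hl.paste_vert hj
  let e := hF.isoPullback
  -- smoothness
  let F : Scheme.{u} := pullback q σ₀
  let pF : F ⟶ Spec (CommRingCat.of k) := pullback.snd q σ₀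
  have hFsm : Smooth pF := by
    let ιV := (q ⁻¹ᵁ V).ι
    haveI hs' : Smooth (ιV ≫ q) := by
      rw [← Scheme.Hom.smoothLocus_eq_top_iff, ← Scheme.Hom.preimage_smoothLocus_eq]
      exact top_le_iff.1 fun w _ => hV (show ιV w ∈ q ⁻¹ᵁ V from w.2)
    have hrange : Set.range (pullback.fst q σ₀) ⊆ Set.range ιV := by
      rintro _ ⟨y, rfl⟩
      rw [Scheme.Opens.range_ι]
      show q (pullback.fst q σ₀ y) ∈ V
      rw [← Scheme.Hom.comp_apply, pullback.condition, Scheme.Hom.comp_apply]
      exact hσV ⟨_, rfl⟩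
    let li := IsOpenImmersion.lift ιV (pullback.fst q σ₀) hrange
    have hsq : IsPullback li (𝟙 F) ιV (pullback.fst q σ₀) :=
      IsPullback.of_vert_isIso_mono ⟨by rw [Category.id_comp]; exact IsOpenImmersion.lift_fac _ _ _⟩
    have h2 := hsq.paste_vert (IsPullback.of_hasPullback q σ₀)
    rw [Category.id_comp] at h2
    exact MorphismProperty.of_isPullback (P := @Smooth) h2 hs'
  have hsmF : Smooth (pullback.fst fσ g ≫ f ≫ X.hom) := by
    rw [← hF.isoPullback_hom_snd]
    haveI : Smooth (pullback.snd q σ₀) := hFsm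
    infer_instance
  refine ⟨hsmF, ?_⟩
  rcases isEmpty_or_nonempty ↥(pullback fσ g) with hempty | hne
  · exact .inl hempty
  refine .inr ?_
  -- dimensions
  haveI : LocallyOfFiniteType pF := inferInstanceAs (LocallyOfFiniteType (pullback.snd q σ₀))
  haveI : IsSeparated X.hom := inferInstance
  haveI : IsIntegral GY := Groth.Agent.S1582.result k G.left Y G.hom (f ≫ X.hom)
  haveI : LocallyOfFiniteType (prG ≫ G.hom) := inferInstance
  haveI : IsSeparated (q ≫ G.hom) := by
    haveI : IsSeparated h := by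
      haveI : IsSeparated (h ≫ X.hom) := by rw [hhX]; infer_instance
      exact IsSeparated.of_comp h X.hom
    rw [hq]; infer_instance
  obtain ⟨dG, hdG⟩ : ∃ d : ℕ, topologicalKrullDim G.left = d :=
    ⟨_, VarDim.topologicalKrullDim_eq_deg_genericPoint G.hom⟩
  have hdGY : topologicalKrullDim GY = ((dG + r : ℕ) : WithBot ℕ∞) := by
    refine (FibDim.topologicalKrullDim_pullback (f := G.hom) (g := f ≫ X.hom)).trans ?_
    rw [hdG, hr]; push_cast; rfl
  have key : ∀ y : F, IsClosed ({y} : Set F) →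
      n ≤ r + s ∧ ringKrullDim (F.presheaf.stalk y) = ((r + s - n : ℕ) : WithBot ℕ∞) := by
    intro y hy
    obtain ⟨⟨sy, hsy⟩, hsy'⟩ : ∃ t : {p : Spec (CommRingCat.of k) ⟶ F // p ≫ pF = 𝟙 _},
        t.1 (IsLocalRing.closedPoint k) = y :=
      ⟨(pointEquivClosedPoint pF).symm ⟨y, hy⟩,
        congrArg Subtype.val ((pointEquivClosedPoint pF).apply_symm_apply ⟨y, hy⟩)⟩
    let sW : Spec (CommRingCat.of k) ⟶ W := sy ≫ pullback.fst q σ₀
    have hsW : sW ≫ q = σ₀ := by
      simp only [sW, Category.assoc]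
      rw [pullback.condition, reassoc_of% hsy]
    have hsW' : sW ≫ q ≫ G.hom = 𝟙 _ := by rw [reassoc_of% hsW, hσ]
    let ζ : Spec (CommRingCat.of k) ⟶ Z := sW ≫ π
    have hζ : ζ ≫ g ≫ X.hom = 𝟙 _ := by
      simp only [ζ, Category.assoc, ← hq]; exact hsW'
    let pW := sW (IsLocalRing.closedPoint k)
    have hpW : pullback.fst q σ₀ y = pW := by rw [← hsy']; rfl
    -- `W` over `G`
    have e1 : ringKrullDim (W.presheaf.stalk pW) =
        ringKrullDim (G.left.presheaf.stalk (σ₀ (IsLocalRing.closedPoint k))) +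
          ringKrullDim (F.presheaf.stalk y) := by
      rw [← hpW]
      refine ringKrullDim_stalk_pullback_point G.hom q σ₀ hσ (fun v hv => ?_) y
      haveI : Smooth ((q ⁻¹ᵁ V).ι ≫ q) := by
        rw [← Scheme.Hom.smoothLocus_eq_top_iff, ← Scheme.Hom.preimage_smoothLocus_eq]
        exact top_le_iff.1 fun w _ => hV (show (q ⁻¹ᵁ V).ι w ∈ q ⁻¹ᵁ V from w.2)
      refine isOpenAt_of_flat q (q ⁻¹ᵁ V) (show q v ∈ V from ?_)
      rw [hv]; exact hσV ⟨_, rfl⟩
    -- `W` over `Z`
    haveI : LocallyOfFinitePresentation π := inferInstance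
    let sπ : Spec (CommRingCat.of k) ⟶ pullback π ζ := pullback.lift sW (𝟙 _) (by rw [Category.id_comp])
    have e2 : ringKrullDim (W.presheaf.stalk pW) =
        ringKrullDim (Z.presheaf.stalk (ζ (IsLocalRing.closedPoint k))) +
          ringKrullDim ((pullback π ζ).presheaf.stalk (sπ (IsLocalRing.closedPoint k))) := by
      have h0 : pullback.fst π ζ (sπ (IsLocalRing.closedPoint k)) = pW := by
        rw [← Scheme.Hom.comp_apply, pullback.lift_fst]
      rw [← h0]
      haveI : Flat ((⊤ : W.Opens).ι ≫ π) := inferInstance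
      exact ringKrullDim_stalk_pullback_point (g ≫ X.hom) π ζ hζ
        (fun v _ => isOpenAt_of_flat π ⊤ trivial) _
    -- `G × Y` over `X`
    let i := pullbackLeftPullbackSndIso h g ζ
    let y₃ : ↥(pullback h (ζ ≫ g)) := i.hom (sπ (IsLocalRing.closedPoint k))
    have e3 : ringKrullDim ((pullback π ζ).presheaf.stalk (sπ (IsLocalRing.closedPoint k))) =
        ringKrullDim ((pullback h (ζ ≫ g)).presheaf.stalk y₃) :=
      (ringKrullDim_eq_of_ringEquiv
        (asIso (i.hom.stalkMap (sπ (IsLocalRing.closedPoint k)))).commRingCatIsoToRingEquiv).symm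
    haveI : Flat ((⊤ : GY.Opens).ι ≫ h) := inferInstance
    have e4 : ringKrullDim (GY.presheaf.stalk (pullback.fst h (ζ ≫ g) y₃)) =
        ringKrullDim (X.left.presheaf.stalk ((ζ ≫ g) (IsLocalRing.closedPoint k))) +
          ringKrullDim ((pullback h (ζ ≫ g)).presheaf.stalk y₃) :=
      ringKrullDim_stalk_pullback_point X.hom h (ζ ≫ g) (by rw [Category.assoc]; exact hζ)
        (fun v _ => isOpenAt_of_flat h ⊤ trivial) y₃
    have hcl : IsClosed ({pullback.fst h (ζ ≫ g) y₃} : Set GY) := by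
      have : pullback.fst h (ζ ≫ g) y₃ = (sW ≫ pullback.fst h g) (IsLocalRing.closedPoint k) := by
        simp only [y₃, i, π]
        rw [← Scheme.Hom.comp_apply, pullbackLeftPullbackSndIso_hom_fst, ← Scheme.Hom.comp_apply,
          pullback.lift_fst_assoc]
      rw [this]
      refine isClosed_point (prG ≫ G.hom) _ ?_
      simp only [Category.assoc]
      exact hsW'
    rw [SmoothReg.ringKrullDim_stalk_closedPoint (prG ≫ G.hom) hcl, hdGY,
      SmoothReg.ringKrullDim_stalk_closedPoint X.hom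
        (isClosed_point X.hom _ (by rw [Category.assoc]; exact hζ)), hn] at e4
    rw [SmoothReg.ringKrullDim_stalk_closedPoint (g ≫ X.hom) (isClosed_point (g ≫ X.hom) _ hζ), hs,
      e3] at e2
    rw [SmoothReg.ringKrullDim_stalk_closedPoint G.hom (isClosed_point G.hom _ hσ), hdG] at e1
    haveI : LocallyOfFiniteType (ζ ≫ g) := by
      haveI : LocallyOfFiniteType ((ζ ≫ g) ≫ X.hom) := by rw [Category.assoc, hζ]; infer_instance
      exact locallyOfFiniteType_of_comp _ X.hom
    obtain ⟨dW, hdW⟩ := exists_stalk_dim (q ≫ G.hom) pW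
    obtain ⟨dF, hdF⟩ := exists_stalk_dim pF y
    obtain ⟨d, hd⟩ := exists_stalk_dim (pullback.fst h (ζ ≫ g) ≫ prG ≫ G.hom) y₃
    rw [hdW, hdF] at e1
    rw [hdW, hd] at e2
    rw [hd] at e4
    rw [hdF]
    have e1' : dW = dG + dF := by exact_mod_cast e1
    have e2' : dW = s + d := by exact_mod_cast e2
    have e4' : dG + r = n + d := by exact_mod_cast e4
    refine ⟨by omega, ?_⟩
    exact_mod_cast (show dF = r + s - n by omega)
  haveI : Nonempty F := ⟨e.hom (Classical.arbitrary _)⟩
  haveI : JacobsonSpace F := LocallyOfFiniteType.jacobsonSpace pF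
  obtain ⟨c, -, hc⟩ := nonempty_inter_closedPoints (Z := (Set.univ : Set F)) Set.univ_nonempty
    isClosed_univ.isLocallyClosed
  refine ⟨(key c hc).1, ?_⟩
  rw [(TopCat.homeoOfIso (Scheme.forgetToTop.mapIso e)).isHomeomorph.topologicalKrullDim_eq]
  exact topologicalKrullDim_eq_of_stalk pF fun y hy => (key y hy).2

end

end Groth.Agent.Kleiman
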